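import Groth.Prelude.Def_PicRel2
import Groth.Agent.Amp73.PullTensor

set_option autoImplicit false
set_option maxHeartbeats 400000
set_option backward.isDefEq.respectTransparency.types false

/-!
# Base change of the relative Picard scheme
-/

noncomputable section

universe u

open CategoryTheory CategoryTheory.Limits AlgebraicGeometry

namespace Groth.Agent.H98PicRel

variable {A B C : Scheme.{u}}

lemma pullCl_comp (a : A ⟶ B) (b : B ⟶ C) (c : PicF.Cl C) :
    PicF.pullCl (a ≫ b) c = PicF.pullCl a (PicF.pullCl b c) := by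
  induction c using Quot.ind with
  | mk L => exact Quot.sound ⟨((Scheme.Modules.pullbackComp a b).app L).symm⟩

lemma isInvertibleCl_pullCl (a : A ⟶ B) {c : PicF.Cl B} (h : PicF.IsInvertibleCl c) :
    PicF.IsInvertibleCl (PicF.pullCl a c) := by
  obtain ⟨L, rfl, hL⟩ := h
  exact ⟨(Scheme.Modules.pullback a).obj L, rfl, Amp73.isInvertible_pullback a hL⟩

variable {X S S' : Scheme.{u}} (f : X ⟶ S) (g : S' ⟶ S)

lemma XTmap_fst {T T' : Over S} (h : T' ⟶ T) :
    PicF.XTmap f h ≫ pullback.fst f T.hom = pullback.fst f T'.hom := by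
  exact (pullback.lift_fst _ _ _).trans (Category.comp_id _)

lemma XTmap_snd {T T' : Over S} (h : T' ⟶ T) :
    PicF.XTmap f h ≫ pullback.snd f T.hom = pullback.snd f T'.hom ≫ h.left := by
  exact pullback.lift_snd _ _ _

lemma XTmap_comp {T T' T'' : Over S} (a : T'' ⟶ T') (b : T' ⟶ T) :
    PicF.XTmap f (a ≫ b) = PicF.XTmap f a ≫ PicF.XTmap f b := by
  refine pullback.hom_ext ?_ ?_
  · rw [Category.assoc, XTmap_fst, XTmap_fst, XTmap_fst]
  · rw [Category.assoc, XTmap_snd, XTmap_snd, reassoc_of% (XTmap_snd f a), Over.comp_left]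

/-- The comparison of base changes. -/
abbrev eXT (T : Over S') : PicF.XT (pullback.snd f g) T ≅ PicF.XT f (Over.mk (T.hom ≫ g)) :=
  pullbackLeftPullbackSndIso f g T.hom

/-- A morphism over `S'` as one over `S`. -/
abbrev push {T T' : Over S'} (h : T' ⟶ T) : Over.mk (T'.hom ≫ g) ⟶ Over.mk (T.hom ≫ g) :=
  Over.homMk h.left (by simp [← Category.assoc, Over.w h])

lemma eXT_natural {T T' : Over S'} (h : T' ⟶ T) :
    PicF.XTmap (pullback.snd f g) h = (eXT f g T').hom ≫ PicF.XTmap f (push g h) ≫ (eXT f g T).inv := by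
  rw [← Category.assoc, Iso.eq_comp_inv]
  refine pullback.hom_ext ?_ ?_
  · rw [Category.assoc, Category.assoc]
    erw [XTmap_fst f (push g h)]
    erw [pullbackLeftPullbackSndIso_hom_fst]
    erw [pullbackLeftPullbackSndIso_hom_fst]
    rw [← Category.assoc]
    erw [XTmap_fst (pullback.snd f g) h]
  · rw [Category.assoc, Category.assoc]
    erw [XTmap_snd f (push g h)]
    erw [pullbackLeftPullbackSndIso_hom_snd]
    erw [pullbackLeftPullbackSndIso_hom_snd_assoc]
    erw [XTmap_snd (pullback.snd f g) h]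
    rfl

/-- The change of association in the base. -/
abbrev assocHom (T : Over S') (U : T.left.Etale) :
    Over.mk ((PicRel.ovr T U).hom ≫ g) ⟶ PicRel.ovr (Over.mk (T.hom ≫ g)) U :=
  Over.homMk (𝟙 U.left) (by simp)

lemma assocHom_ovrHom (T : Over S') (U : T.left.Etale) :
    assocHom g T U ≫ PicRel.ovrHom (Over.mk (T.hom ≫ g)) U = push g (PicRel.ovrHom T U) := by
  apply Over.OverMorphism.ext
  simp

variable (P : Over S) (φ : ∀ T : Over S, PicF.Cl (PicF.XT f T) → (T ⟶ P))

theorem isRelPic_baseChange (hP : PicRel.IsRelPic f P φ) :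
    PicRel.IsRelPic (pullback.snd f g) (Over.mk (pullback.snd P.hom g))
      (fun T c => Over.homMk
        (pullback.lift (φ (Over.mk (T.hom ≫ g)) (PicF.pullCl (pullbackLeftPullbackSndIso f g T.hom).inv c)).left T.hom
          (Over.w (φ (Over.mk (T.hom ≫ g)) (PicF.pullCl (pullbackLeftPullbackSndIso f g T.hom).inv c))))
        (pullback.lift_snd _ _ _)) where
  natural T T' h c hc := by
    have h1 : PicF.pullCl (eXT f g T').inv (PicF.pullCl (PicF.XTmap (pullback.snd f g) h) c) =
        PicF.pullCl (PicF.XTmap f (push g h)) (PicF.pullCl (eXT f g T).inv c) := by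
      rw [← pullCl_comp, ← pullCl_comp, eXT_natural, Iso.inv_hom_id_assoc]
    have h2 := hP.natural _ _ (push g h) _ (isInvertibleCl_pullCl (eXT f g T).inv hc)
    rw [← h1] at h2
    apply Over.OverMorphism.ext
    refine pullback.hom_ext ?_ ?_
    · simp only [Over.homMk_left, Over.comp_left, Category.assoc, pullback.lift_fst]
      exact congrArg CommaMorphism.left h2
    · simp only [Over.homMk_left, Over.comp_left, Category.assoc, pullback.lift_snd]
      exact (Over.w h).symm
  locallySurjective T G := by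
    let G₀ : Over.mk (T.hom ≫ g) ⟶ P := Over.homMk (G.left ≫ pullback.fst P.hom g) (by
      have hG : G.left ≫ pullback.snd P.hom g = T.hom := Over.w G
      simp [pullback.condition, reassoc_of% hG])
    obtain ⟨ι, U, hU, hc⟩ := hP.locallySurjective _ G₀
    refine ⟨ι, U, hU, fun i => ?_⟩
    obtain ⟨c, hinv, hφ⟩ := hc i
    refine ⟨PicF.pullCl (eXT f g (PicRel.ovr T (U i))).hom (PicF.pullCl (PicF.XTmap f (assocHom g T (U i))) c),
      isInvertibleCl_pullCl _ (isInvertibleCl_pullCl _ hinv), ?_⟩
    have h1 : PicF.pullCl (eXT f g (PicRel.ovr T (U i))).inv (PicF.pullCl (eXT f g (PicRel.ovr T (U i))).hom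
        (PicF.pullCl (PicF.XTmap f (assocHom g T (U i))) c)) =
        PicF.pullCl (PicF.XTmap f (assocHom g T (U i))) c := by
      rw [← pullCl_comp, ← pullCl_comp, Iso.inv_hom_id, Category.id_comp]
    apply Over.OverMorphism.ext
    refine pullback.hom_ext ?_ ?_
    · simp only [Over.homMk_left, Over.comp_left, Category.assoc, pullback.lift_fst]
      rw [h1, hP.natural _ _ (assocHom g T (U i)) c hinv, hφ]
      simp [G₀]
    · simp only [Over.homMk_left, Over.comp_left, Category.assoc, pullback.lift_snd]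
      rw [show G.left ≫ pullback.snd P.hom g = T.hom from Over.w G]
      rfl
  locallyInjective T c c' hc hc' h := by
    have h0 : φ (Over.mk (T.hom ≫ g)) (PicF.pullCl (eXT f g T).inv c) =
        φ (Over.mk (T.hom ≫ g)) (PicF.pullCl (eXT f g T).inv c') := by
      apply Over.OverMorphism.ext
      have h3 := congrArg (fun m => m.left ≫ pullback.fst P.hom g) h
      simp only [Over.homMk_left, pullback.lift_fst] at h3
      exact h3
    obtain ⟨ι, U, hU, hUc⟩ := hP.locallyInjective _ _ _ (isInvertibleCl_pullCl _ hc)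
      (isInvertibleCl_pullCl _ hc') h0
    refine ⟨ι, U, hU, fun i => ?_⟩
    have hfac : PicF.XTmap (pullback.snd f g) (PicRel.ovrHom T (U i)) =
        ((eXT f g _).hom ≫ PicF.XTmap f (assocHom g T (U i))) ≫
          PicF.XTmap f (PicRel.ovrHom (Over.mk (T.hom ≫ g)) (U i)) ≫ (eXT f g T).inv := by
      rw [eXT_natural, ← assocHom_ovrHom, XTmap_comp, Category.assoc, Category.assoc]
    rw [hfac, pullCl_comp, pullCl_comp, pullCl_comp, pullCl_comp, pullCl_comp, pullCl_comp, hUc i]

end Groth.Agent.H98PicRel
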